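import Groth.Agent.TorDenseLib.GroupAlg

/-!
The torsion subgroups of a group of multiplicative type of finite type are schematically dense.
-/

set_option autoImplicit false
universe u

open TensorProduct MonoidAlgebra

namespace Groth.Agent.TorDenseLib

open Groth.Agent.MultTypeLib (Split Cover exists_cover prn)

variable {R : Type u} [CommRing R] {A : Type u} [CommRing A] [HopfAlgebra R A]

theorem exists_pow_hom_eq_zero (hft : Algebra.FiniteType R A) (P : Split R A) (a x : A)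
    (h : ∀ n : ℕ, 0 < n → ∃ j : ℕ, a ^ j * x ∈ SGA3b.torsionIdeal R A n) :
    ∃ J : ℕ, P.hom.toAlgHom (a ^ J * x) = 0 := by
  by_cases hS : Subsingleton P.S
  · haveI : Subsingleton (MonoidAlgebra P.S P.M) := Module.subsingleton P.S _
    exact ⟨0, Subsingleton.elim _ _⟩
  haveI : Nontrivial P.S := not_subsingleton_iff_nontrivial.1 hS
  haveI : Group.FG P.M := by
    haveI := hft
    haveI : Algebra.FiniteType P.S (P.S ⊗[R] A) := inferInstance
    exact MonoidAlgebra.finiteType_iff_group_fg.1 (Algebra.FiniteType.equiv inferInstance P.equiv)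
  obtain ⟨J, hJ⟩ := pow_mul_eq_zero (P.hom.toAlgHom a) (P.hom.toAlgHom x) fun n hn => by
    obtain ⟨j, hj⟩ := h n hn
    refine ⟨j, ?_⟩
    rw [← map_pow, ← map_mul]
    exact P.pr_torsion n _ hj
  exact ⟨J, by rw [map_mul, map_pow, hJ]⟩

theorem exists_pow_mul_eq_zero (hft : Algebra.FiniteType R A) (hA : SGA3b.IsMultType R A) (a x : A)
    (h : ∀ n : ℕ, 0 < n → ∃ j : ℕ, a ^ j * x ∈ SGA3b.torsionIdeal R A n) :
    ∃ J : ℕ, a ^ J * x = 0 := by
  classical
  obtain ⟨c⟩ := exists_cover hA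
  choose J hJ using fun i => exists_pow_hom_eq_zero hft (c.split i) a x h
  haveI := Fintype.ofFinite c.ι
  refine ⟨∑ i, J i, c.module_ext _ fun i => (c.split i).equiv.injective ?_⟩
  obtain ⟨t, ht⟩ := Nat.exists_eq_add_of_le (Finset.single_le_sum (fun j _ => Nat.zero_le (J j)) (Finset.mem_univ i))
  rw [(c.split i).equiv_tmul, map_zero, ht, pow_add, mul_comm (a ^ J i), mul_assoc, map_mul, hJ i, mul_zero]

theorem iInf_map_torsionIdeal_eq_bot (hft : Algebra.FiniteType R A) (hA : SGA3b.IsMultType R A) (a : A) :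
    ⨅ n : {n : ℕ // 0 < n}, Ideal.map (algebraMap A (Localization.Away a)) (SGA3b.torsionIdeal R A n.1) = ⊥ := by
  rw [eq_bot_iff]
  intro z hz
  obtain ⟨x, y, rfl⟩ := IsLocalization.exists_mk'_eq (Submonoid.powers a) z
  rw [Submodule.mem_iInf] at hz
  obtain ⟨J, hJ⟩ := exists_pow_mul_eq_zero hft hA a x fun n hn => by
    obtain ⟨⟨⟨w, hw⟩, v⟩, he⟩ := (IsLocalization.mem_map_algebraMap_iff (Submonoid.powers a) _).1
      (Ideal.mul_mem_right (algebraMap A (Localization.Away a) (y : A)) _ (hz ⟨n, hn⟩))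
    rw [IsLocalization.mk'_spec, ← map_mul, IsLocalization.eq_iff_exists (Submonoid.powers a)] at he
    obtain ⟨c, hq⟩ := he
    obtain ⟨l, hl : a ^ l = v⟩ := v.2
    obtain ⟨q, hq' : a ^ q = c⟩ := c.2
    refine ⟨q + l, ?_⟩
    rw [pow_add, mul_assoc, mul_comm (a ^ l), hl, hq', hq]
    exact Ideal.mul_mem_left _ _ hw
  rw [Submodule.mem_bot, IsLocalization.mk'_eq_zero_iff]
  exact ⟨⟨a ^ J, J, rfl⟩, hJ⟩

end Groth.Agent.TorDenseLib
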