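import Groth.Agent.TorDenseLib.Main
import Groth.Agent.MultTypeLib.TorsionCrit

/-!
Torsion is schematically dense in a commutative group with an open subgroup of multiplicative type.
-/

set_option autoImplicit false
universe u

open WithConv TensorProduct Coalgebra Bialgebra Groth.Agent.MultTypeLib

noncomputable section

namespace Groth.Agent.TorDenseLib

attribute [local instance 2000] algConvGroup

variable {k : Type u} [CommRing k] {C : Type u} [CommRing C] [HopfAlgebra k C]

theorem torsionIdeal_mul_le (n N : ℕ) :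
    SGA3b.torsionIdeal k C (N * n) ≤ SGA3b.torsionIdeal k C n := by
  rw [SGA3b.torsionIdeal, Ideal.map_le_iff_le_comap]
  intro c hc
  have h : convMap (SGA3b.powConv k C n) (toConv (AlgHom.id k C) ^ N) = toConv (AlgHom.id k C) ^ (N * n) := by
    rw [map_pow, mul_comm N n, pow_mul]
    rfl
  show (toConv (AlgHom.id k C) ^ (N * n)).ofConv c ∈
    Ideal.map (SGA3b.powConv k C n) (RingHom.ker (counitAlgHom k C))
  rw [← h]
  refine Ideal.mem_map_of_mem _ ?_
  show counit (R := k) ((toConv (AlgHom.id k C) ^ N).ofConv c) = 0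
  have h2 : convMap (counitAlgHom k C) (toConv (AlgHom.id k C) ^ N) = 1 := by
    rw [map_pow, show convMap (counitAlgHom k C) (toConv (AlgHom.id k C)) = 1 from
      WithConv.ext (AlgHom.ext fun x => by simp [convMap_apply]), one_pow]
  refine (congrArg (fun f : WithConv (C →ₐ[k] k) => f.ofConv c) h2).trans ?_
  show algebraMap k k (counit c) = 0
  rw [show counit (R := k) c = 0 from hc, map_zero]

/-- Restriction of points along a bialgebra map. -/
def preHom {D : Type u} [CommRing D] [HopfAlgebra k D] (π : C →ₐc[k] D) (B : Type u) [CommRing B] [Algebra k B] :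
    WithConv (D →ₐ[k] B) →* WithConv (C →ₐ[k] B) where
  toFun g := toConv (g.ofConv.comp (π : C →ₐ[k] D))
  map_one' := by
    refine WithConv.ext (AlgHom.ext fun c => ?_)
    show algebraMap k B (counit (π c)) = algebraMap k B (counit c)
    rw [CoalgHomClass.counit_comp_apply]
  map_mul' f g := WithConv.ext (AlgHom.convMul_comp_bialgHom_distrib f g π)

set_option maxHeartbeats 1000000 in
theorem iInf_map_torsionIdeal_eq_bot_of_open (k : Type u) [Field k] (C : Type u) [CommRing C] [HopfAlgebra k C]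
    [Coalgebra.IsCocomm k C] (hft : Algebra.FiniteType k C)
    (e : C) (he : IsIdempotentElem e) [(Ideal.span {e}).IsHopfIdeal k]
    (hG : SGA3b.IsMultType k (C ⧸ Ideal.span {e})) (a : C) :
    ⨅ n : {n : ℕ // 0 < n}, Ideal.map (algebraMap C (Localization.Away a)) (SGA3b.torsionIdeal k C n.1) = ⊥ := by
  classical
  let D := C ⧸ Ideal.span {e}
  let π : C →ₐc[k] D := Bialgebra.Quotient.mkBialgHom (R := k) (Ideal.span {e})
  have hπ : Function.Surjective π := Ideal.Quotient.mk_surjective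
  haveI hftD : Algebra.FiniteType k D := Algebra.FiniteType.of_surjective (π : C →ₐ[k] D) hπ
  obtain ⟨cov⟩ := exists_cover hG
  obtain ⟨i₀, q₀, hq₀, -⟩ := cov.surj (⊥ : Ideal k) Ideal.isPrime_bot
  let P := cov.split i₀
  haveI := hq₀
  obtain ⟨L, _, _, ⟨ιL⟩⟩ : ∃ (L : Type u) (_ : Field L) (_ : IsAlgClosed L), Nonempty (P.S →+* L) :=
    ⟨AlgebraicClosure q₀.ResidueField, inferInstance, inferInstance,
      ⟨(algebraMap q₀.ResidueField _).comp (algebraMap P.S q₀.ResidueField)⟩⟩
  letI : Algebra k L := (ιL.comp (algebraMap k P.S)).toAlgebra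
  letI : Algebra P.S L := ιL.toAlgebra
  haveI : IsScalarTower k P.S L := IsScalarTower.of_algebraMap_eq fun _ => rfl
  haveI : Nontrivial P.S := (algebraMap P.S L).domain_nontrivial
  haveI : Group.FG P.M := by
    haveI : Algebra.FiniteType P.S (P.S ⊗[k] D) := inferInstance
    exact MonoidAlgebra.finiteType_iff_group_fg.1 (Algebra.FiniteType.equiv inferInstance P.equiv)
  let F := L ⊗[k] C
  let iL : L →ₐ[k] F := Algebra.TensorProduct.includeLeft
  let iR : WithConv (C →ₐ[k] F) := toConv Algebra.TensorProduct.includeRight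
  haveI : Algebra.FiniteType L F := inferInstance
  haveI : _root_.IsNoetherianRing F := Algebra.FiniteType.isNoetherianRing L _
  let T : WithConv (C →ₐ[k] L) → WithConv (C →ₐ[k] F) := fun h => convMap iL h * iR
  let θ : WithConv (C →ₐ[k] L) → (F →ₐ[k] F) := fun h =>
    Algebra.TensorProduct.lift iL (T h).ofConv fun _ _ => .all _ _
  let pre := preHom π
  let iLD : L →ₐ[k] L ⊗[k] D := Algebra.TensorProduct.includeLeft
  let πL : F →ₐ[L] L ⊗[k] D := Algebra.TensorProduct.map (AlgHom.id L L) (π : C →ₐ[k] D)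
  have hkerπ : ∀ z : F, πL z = 0 → ∃ w, z = w * ((1 : L) ⊗ₜ e) := by
    intro z hz
    have h1 : RingHom.ker (Algebra.TensorProduct.map (AlgHom.id k L) (π : C →ₐ[k] D)) =
        (RingHom.ker (π : C →ₐ[k] D)).map (Algebra.TensorProduct.includeRight : C →ₐ[k] F) :=
      Algebra.TensorProduct.lTensor_ker _ hπ
    have h2 : RingHom.ker (π : C →ₐ[k] D) = Ideal.span {e} := Ideal.mk_ker
    rw [h2, Ideal.map_span, Set.image_singleton] at h1
    have h3 : z ∈ Ideal.span {(Algebra.TensorProduct.includeRight : C →ₐ[k] F) e} := h1.le hz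
    obtain ⟨w, hw⟩ := Ideal.mem_span_singleton'.1 h3
    exact ⟨w, hw.symm⟩
  rw [eq_bot_iff]
  intro z hz
  obtain ⟨x, y, rfl⟩ := IsLocalization.exists_mk'_eq (Submonoid.powers a) z
  rw [Submodule.mem_iInf] at hz
  have hyp : ∀ n : ℕ, 0 < n → ∃ j : ℕ, a ^ j * x ∈ SGA3b.torsionIdeal k C n := fun n hn => by
    obtain ⟨⟨⟨w, hw⟩, v⟩, hv⟩ := (IsLocalization.mem_map_algebraMap_iff (Submonoid.powers a) _).1
      (Ideal.mul_mem_right (algebraMap C (Localization.Away a) (y : C)) _ (hz ⟨n, hn⟩))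
    rw [IsLocalization.mk'_spec, ← map_mul, IsLocalization.eq_iff_exists (Submonoid.powers a)] at hv
    obtain ⟨c, hq⟩ := hv
    obtain ⟨l, hl : a ^ l = v⟩ := v.2
    obtain ⟨q, hq' : a ^ q = c⟩ := c.2
    refine ⟨q + l, ?_⟩
    rw [pow_add, mul_assoc, mul_comm (a ^ l), hl, hq', hq]
    exact Ideal.mul_mem_left _ _ hw
  -- translation by a torsion point, followed by restriction to the subgroup
  have hloc : ∀ (N : ℕ) (h : WithConv (C →ₐ[k] L)), 0 < N → h ^ N = 1 →
      ∃ J : ℕ, πL ((T h).ofConv (a ^ J * x)) = 0 := by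
    intro N h hN hh
    let Φ : WithConv (C →ₐ[k] L ⊗[k] D) := convMap (πL.restrictScalars k) (T h)
    have hΦ : ∀ n : ℕ, N ∣ n → ∀ c : C, c ∈ SGA3b.torsionIdeal k C n →
        Φ.ofConv c ∈ SGA3b.torsionIdeal L (L ⊗[k] D) n := by
      intro n hn
      suffices hle : SGA3b.torsionIdeal k C n ≤ (SGA3b.torsionIdeal L (L ⊗[k] D) n).comap Φ.ofConv from
        fun c hc => hle hc
      refine Ideal.map_le_iff_le_comap.mpr fun c hc => ?_
      let q : WithConv (D →ₐ[k] L ⊗[k] D) := toConv Algebra.TensorProduct.includeRight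
      have e1 : Φ = convMap iLD h * pre _ q := by
        show convMap _ (convMap iL h * iR) = _
        rw [map_mul]
        congr 1
      have e2 : convMap Φ.ofConv (toConv (AlgHom.id k C) ^ n) = pre _ (q ^ n) := by
        rw [map_pow, show convMap Φ.ofConv (toConv (AlgHom.id k C)) = Φ from rfl, e1,
          Commute.mul_pow (a := convMap iLD h) (b := pre _ q) (mul_comm (convMap iLD h) (pre _ q)), ← map_pow,
          ← map_pow]
        obtain ⟨t, rfl⟩ := hn
        rw [pow_mul h, hh, one_pow, map_one]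
        exact (one_mul (pre (L ⊗[k] D) (q ^ (N * t))))
      rw [Ideal.mem_comap, Ideal.mem_comap]
      show Φ.ofConv ((toConv (AlgHom.id k C) ^ n).ofConv c) ∈ SGA3b.torsionIdeal L (L ⊗[k] D) n
      rw [show Φ.ofConv ((toConv (AlgHom.id k C) ^ n).ofConv c) = (q ^ n).ofConv (π c) from
        congrArg (fun f : WithConv (C →ₐ[k] L ⊗[k] D) => f.ofConv c) e2]
      have e3 : convMap q.ofConv (toConv (AlgHom.id k D) ^ n) = q ^ n := by
        rw [map_pow]; rfl
      rw [← e3]
      refine tmul_mem_torsionIdeal (T := L) n (Ideal.mem_map_of_mem _ ?_)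
      show counit (R := k) (π c) = 0
      rw [CoalgHomClass.counit_comp_apply]
      exact hc
    obtain ⟨J, hJ⟩ := exists_pow_mul_eq_zero (R := L) (A := L ⊗[k] D) inferInstance
      (isMultType_baseChange L hG) (Φ.ofConv a) (Φ.ofConv x) fun n hn => by
        obtain ⟨j, hj⟩ := hyp (N * n) (Nat.mul_pos hN hn)
        refine ⟨j, torsionIdeal_mul_le n N ?_⟩
        rw [← map_pow, ← map_mul]
        exact hΦ _ (Dvd.intro n rfl) _ hj
    refine ⟨J, ?_⟩
    show Φ.ofConv (a ^ J * x) = 0
    rw [map_mul, map_pow]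
    exact hJ
  -- inverse translations
  have hθ : ∀ (h : WithConv (C →ₐ[k] L)) (c : C), θ h⁻¹ ((T h).ofConv c) = (1 : L) ⊗ₜ c := by
    intro h c
    have h1 : convMap (θ h⁻¹) (T h) = iR := by
      show convMap (θ h⁻¹) (convMap iL h * iR) = iR
      rw [map_mul, convMap_convMap,
        show (θ h⁻¹).comp iL = iL from Algebra.TensorProduct.lift_comp_includeLeft _ _ _,
        show convMap (θ h⁻¹) iR = T h⁻¹ from WithConv.ext (AlgHom.ext fun c => by
          show θ h⁻¹ ((1 : L) ⊗ₜ c) = _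
          rw [Algebra.TensorProduct.lift_tmul, map_one, one_mul])]
      show convMap iL h * (convMap iL h⁻¹ * iR) = iR
      rw [← mul_assoc, ← map_mul, mul_inv_cancel, map_one, one_mul]
    exact congrArg (fun f : WithConv (C →ₐ[k] F) => f.ofConv c) h1
  -- finitely many translates of the subgroup
  let U : Set F := {u | ∃ (N : ℕ) (h : WithConv (C →ₐ[k] L)), 0 < N ∧ h ^ N = 1 ∧ (T h⁻¹).ofConv e = u}
  have hU : U.Finite := (finite_idempotents F).subset fun u hu => by
    obtain ⟨N, h, -, -, rfl⟩ := hu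
    exact he.map (T h⁻¹).ofConv
  haveI := hU.fintype
  choose Nu hu hN hh huu using fun u : U => u.2
  choose J hJ using fun u : U => hloc (Nu u) (hu u) (hN u) (hh u)
  let Jm := ∑ u, J u
  let y₀ : F := (1 : L) ⊗ₜ (a ^ Jm * x)
  have hy₀ : ∀ u : U, ∃ w, y₀ = w * u.1 := by
    intro u
    obtain ⟨t, ht⟩ := Nat.exists_eq_add_of_le
      (Finset.single_le_sum (fun j _ => Nat.zero_le (J j)) (Finset.mem_univ u))
    obtain ⟨w, hw⟩ := hkerπ ((T (hu u)).ofConv (a ^ Jm * x)) (by
      rw [show Jm = J u + t from ht, pow_add, mul_comm (a ^ J u), mul_assoc, map_mul, map_mul, hJ u, mul_zero])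
    refine ⟨θ (hu u)⁻¹ w, ?_⟩
    rw [← huu u, show y₀ = θ (hu u)⁻¹ ((T (hu u)).ofConv (a ^ Jm * x)) from (hθ _ _).symm, hw, map_mul]
    congr 1
    show θ (hu u)⁻¹ ((1 : L) ⊗ₜ e) = _
    rw [Algebra.TensorProduct.lift_tmul, map_one, one_mul]
  rw [Submodule.mem_bot, IsLocalization.mk'_eq_zero_iff]
  refine ⟨⟨a ^ Jm, Jm, rfl⟩, ?_⟩
  show a ^ Jm * x = 0
  apply Algebra.TensorProduct.includeRight_injective (A := L) (R := k) (algebraMap k L).injective
  rw [map_zero]
  show y₀ = 0
  by_contra hne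
  let ann : Ideal F := LinearMap.ker (LinearMap.mulRight F y₀)
  obtain ⟨m, hm, hann⟩ := Ideal.exists_le_maximal ann fun htop => hne (by
    have h1 : (1 : F) ∈ ann := htop ▸ Submodule.mem_top
    simpa [ann] using h1)
  haveI : IsJacobsonRing F := isJacobsonRing_of_finiteType (A := L)
  letI : Field (F ⧸ m) := Ideal.Quotient.field m
  haveI : Algebra.FiniteType L (F ⧸ m) := Algebra.FiniteType.of_surjective (Ideal.Quotient.mkₐ _ m)
    Ideal.Quotient.mk_surjective
  haveI : Module.Finite L (F ⧸ m) := finite_of_finite_type_of_isJacobsonRing L _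
  haveI : Module.IsTorsionFree L (F ⧸ m) := Module.isTorsionFree_iff_algebraMap_injective.mpr
    (algebraMap L (F ⧸ m)).injective
  let σ : (F ⧸ m) →ₐ[L] L := IsAlgClosed.lift
  let ev : F →ₐ[k] L := (σ.comp (Ideal.Quotient.mkₐ L m)).restrictScalars k
  have hev : ∀ z, ev z = 0 → z ∈ m := fun z hz =>
    Ideal.Quotient.eq_zero_iff_mem.1 ((map_eq_zero σ).1 hz)
  let g : WithConv (C →ₐ[k] L) := convMap ev iR
  have hevL : ev.comp iL = AlgHom.id k L := AlgHom.ext fun l => by
    show σ (Ideal.Quotient.mk m (algebraMap L F l)) = l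
    exact σ.commutes l
  have hevT : ∀ h, ev ((T h).ofConv e) = (h * g).ofConv e := fun h => by
    have h1 : convMap ev (T h) = h * g := by
      show convMap ev (convMap iL h * iR) = h * g
      rw [map_mul, convMap_convMap, hevL]
      rfl
    exact congrArg (fun f : WithConv (C →ₐ[k] L) => f.ofConv e) h1
  -- points of the subgroup
  let preL := pre L
  have hpre0 : ∀ d, (preL d).ofConv e = 0 := fun d => by
    show d.ofConv (Ideal.Quotient.mk _ e) = 0
    rw [Ideal.Quotient.eq_zero_iff_mem.mpr (Ideal.mem_span_singleton_self e), map_zero]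
  have hmem : ∀ p : WithConv (C →ₐ[k] L), p.ofConv e = 0 → ∃ d, preL d = p := fun p hp =>
    ⟨toConv (Ideal.Quotient.liftₐ _ p.ofConv fun b hb => by
      obtain ⟨b, rfl⟩ := Ideal.mem_span_singleton.mp hb
      rw [map_mul, hp, zero_mul]), WithConv.ext (AlgHom.ext fun c => rfl)⟩
  -- some power of the point lies in the subgroup
  let fn : ℕ → {z : F | IsIdempotentElem z} := fun i => ⟨(T (g ^ i)).ofConv e, he.map (T (g ^ i)).ofConv⟩
  haveI : Finite {z : F | IsIdempotentElem z} := (finite_idempotents F).to_subtype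
  obtain ⟨i, j, hij, hfn⟩ : ∃ i j, i < j ∧ fn i = fn j := by
    obtain ⟨i, j, hij, hfn⟩ := Finite.exists_ne_map_eq_of_infinite fn
    rcases lt_or_gt_of_ne hij with h | h
    · exact ⟨i, j, h, hfn⟩
    · exact ⟨j, i, h, hfn.symm⟩
  obtain ⟨n, rfl⟩ := Nat.exists_eq_add_of_lt hij
  have hgn : (g ^ (n + 1)).ofConv e = 0 := by
    let ev' : F →ₐ[k] L := Algebra.TensorProduct.lift (AlgHom.id k L) ((g ^ i)⁻¹).ofConv fun _ _ => .all _ _
    have h1 : ∀ l, convMap ev' (T l) = l * (g ^ i)⁻¹ := fun l => by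
      show convMap ev' (convMap iL l * iR) = _
      rw [map_mul, convMap_convMap, Algebra.TensorProduct.lift_comp_includeLeft]
      congr 1
      refine WithConv.ext (AlgHom.ext fun c => ?_)
      show ev' ((1 : L) ⊗ₜ c) = _
      rw [Algebra.TensorProduct.lift_tmul, map_one, one_mul]
    have h2 : (g ^ i * (g ^ i)⁻¹).ofConv e = (g ^ (i + n + 1) * (g ^ i)⁻¹).ofConv e := by
      rw [← h1, ← h1]
      exact congrArg ev' (congrArg Subtype.val hfn)
    rw [mul_inv_cancel, show g ^ (i + n + 1) * (g ^ i)⁻¹ = g ^ (n + 1) by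
      rw [show i + n + 1 = n + 1 + i by omega, pow_add, mul_assoc, mul_inv_cancel, mul_one]] at h2
    rw [← h2, ← map_one preL]
    exact hpre0 1
  obtain ⟨d, hd⟩ := hmem _ hgn
  obtain ⟨t, ht, hroot⟩ := exists_root_char P.M (k := L)
  obtain ⟨χ, rfl⟩ := charPoint_surjective (k := L) P.hom P.equiv P.equiv_tmul d
  obtain ⟨η, hη⟩ := hroot χ.toHomUnits (n + 1) n.succ_pos
  let hD : WithConv (D →ₐ[k] L) := charPoint P.hom ((Units.coeHom L).comp η)
  have hh' : (preL hD) ^ ((n + 1) * t) = (g ^ (n + 1)) ^ t := by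
    rw [← hd, ← map_pow, ← map_pow, ← map_pow, ← map_pow]
    refine congrArg _ (congrArg _ (MonoidHom.ext fun m => ?_))
    have h1 := congrArg (fun f : P.M →* Lˣ => ((f m : Lˣ) : L)) hη
    simpa using h1
  let w : WithConv (C →ₐ[k] L) := g * (preL hD)⁻¹
  have hw : w ^ ((n + 1) * t) = 1 := by
    have hc : Commute g (preL hD)⁻¹ := mul_comm _ _
    rw [hc.mul_pow, inv_pow, hh', ← pow_mul, mul_inv_cancel]
  let u : U := ⟨(T w⁻¹).ofConv e, (n + 1) * t, w, Nat.mul_pos n.succ_pos ht, hw, rfl⟩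
  obtain ⟨c, hc⟩ := hy₀ u
  have hum : u.1 ∈ m := hev _ (by
    show ev ((T w⁻¹).ofConv e) = 0
    rw [hevT, show w⁻¹ * g = preL hD by rw [mul_inv_rev, inv_inv, mul_assoc, inv_mul_cancel, mul_one]]
    exact hpre0 _)
  have hidem : IsIdempotentElem u.1 := he.map (T w⁻¹).ofConv
  have hum' : 1 - u.1 ∈ m := hann (by
    show (1 - u.1) * y₀ = 0
    rw [hc, mul_left_comm, sub_mul, one_mul, hidem.eq, sub_self, mul_zero])
  exact hm.ne_top (m.eq_top_iff_one.2 (by simpa using m.add_mem hum' hum))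

end Groth.Agent.TorDenseLib
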