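import Groth.Agent.MultTypeLib.Point
import Mathlib.FieldTheory.IsAlgClosed.AlgebraicClosure
import Mathlib.RingTheory.Localization.FractionRing
import Mathlib.RingTheory.Adjoin.FG
import Mathlib.RingTheory.Polynomial.Cyclotomic.Roots
import Mathlib.NumberTheory.LegendreSymbol.AddCharacter
import Mathlib.LinearAlgebra.LinearIndependent.Basic
import Mathlib.LinearAlgebra.FiniteDimensional.Lemmas
import Mathlib.RingTheory.FiniteType

/-!
The finite quotients of a finitely generated abelian group are schematically dense in its group algebra.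
-/

set_option autoImplicit false
universe u

open MonoidAlgebra

noncomputable section

namespace Groth.Agent.TorDenseLib

open Groth.Agent.MultTypeLib (prn)

variable {M : Type u} [CommGroup M]

theorem mapRing_mapDomain {S T : Type u} [CommRing S] [CommRing T] {Q : Type u} [CommGroup Q]
    (φ : S →+* T) (g : M →* Q) (z : MonoidAlgebra S M) :
    mapRingHom Q φ (mapDomainRingHom S g z) = mapDomainRingHom T g (mapRingHom M φ z) := by
  induction z using MonoidAlgebra.induction_linear with
  | zero => simp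
  | add y z hy hz => simp only [map_add, hy, hz]
  | single m r => simp

/-- Killed on every finite quotient after multiplying by some power of `a`. -/
def Killed {S : Type u} [CommRing S] (a x : MonoidAlgebra S M) : Prop :=
  ∀ n : ℕ, 0 < n → ∃ j : ℕ, mapDomainRingHom S (prn (M := M) n) (a ^ j * x) = 0

theorem Killed.map {S T : Type u} [CommRing S] [CommRing T] (φ : S →+* T) {a x : MonoidAlgebra S M}
    (h : Killed a x) : Killed (mapRingHom M φ a) (mapRingHom M φ x) := fun n hn => by
  obtain ⟨j, hj⟩ := h n hn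
  exact ⟨j, by rw [← map_pow, ← map_mul, ← mapRing_mapDomain, hj, map_zero]⟩

theorem Killed.of_injective {S T : Type u} [CommRing S] [CommRing T] (φ : S →+* T)
    (hφ : Function.Injective φ) {a x : MonoidAlgebra S M}
    (h : Killed (mapRingHom M φ a) (mapRingHom M φ x)) : Killed a x := fun n hn => by
  obtain ⟨j, hj⟩ := h n hn
  refine ⟨j, ?_⟩
  rw [← map_pow, ← map_mul, ← mapRing_mapDomain] at hj
  ext q
  have := congrArg (fun y => y.coeff q) hj
  simp only [coeff_mapRingHom] at this
  exact hφ (this.trans (map_zero φ).symm)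

theorem pow_mul_eq_zero_of_field [Group.FG M] {k : Type u} [Field k] [IsAlgClosed k]
    (a x : MonoidAlgebra k M) (h : Killed a x) : ∃ d : ℕ, a ^ d * x = 0 := by
  classical
  obtain ⟨ι, j, _, _, p, hp, e, ⟨f⟩⟩ := CommGroup.equiv_free_prod_prod_multiplicative_zmod M
  haveI : ∀ i, NeZero (p i ^ e i) := fun i => ⟨pow_ne_zero _ (hp i).ne_zero⟩
  let F := (i : ι) → Multiplicative (ZMod (p i ^ e i))
  let Λ := MonoidAlgebra k F
  haveI : Module.Finite k Λ := Module.Finite.equiv (coeffLinearEquiv k).symm
  let d := Module.finrank k Λ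
  refine ⟨d, ?_⟩
  let z := a ^ d * x
  show z = 0
  by_contra hz
  let ex : M → j → ℤ := fun m i => ((f m).1 i).toAdd
  obtain ⟨N, hNB, hN⟩ := Nat.exists_infinite_primes
    ((∑ m ∈ z.coeff.support, ∑ i, 2 * (ex m i).natAbs) + ringChar k + 1)
  haveI : Fact N.Prime := ⟨hN⟩
  have hNk : (N : k) ≠ 0 := by
    intro h0
    have h1 : ringChar k ∣ N := ringChar.dvd h0
    rcases (Nat.dvd_prime hN).1 h1 with h2 | h2
    · exact CharP.ringChar_ne_one h2
    · omega
  haveI : NeZero (N : k) := ⟨hNk⟩
  obtain ⟨ω, hω'⟩ := IsAlgClosed.exists_root (Polynomial.cyclotomic N k)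
    (Polynomial.degree_cyclotomic_pos N k hN.pos).ne'
  have hω : IsPrimitiveRoot ω N := Polynomial.isRoot_cyclotomic_iff.1 hω'
  let ψ : AddChar (ZMod N) k := AddChar.zmodChar N hω.pow_eq_one
  let ebar : M → j → ZMod N := fun m i => (ex m i : ZMod N)
  let dot (v w : j → ZMod N) : ZMod N := ∑ i, v i * w i
  have heval : ∀ v : j → ZMod N, ∀ q : F,
      ∑ m ∈ z.coeff.support.filter (fun m => (f m).2 = q), z.coeff m * ψ (dot v (ebar m)) = 0 := by
    intro v q
    let χ : M →* k :=
      { toFun := fun m => ψ (dot v (ebar m))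
        map_one' := by simp [dot, ebar, ex]
        map_mul' := fun m m' => by
          rw [← AddChar.map_add_eq_mul]
          congr 1
          simp [dot, ebar, ex, mul_add, Finset.sum_add_distrib] }
    let η : M →* Λ :=
      ((algebraMap k Λ).toMonoidHom.comp χ) * ((of k F).comp ((MonoidHom.snd _ _).comp f.toMonoidHom))
    have hη : ∀ m, η m = single (f m).2 (ψ (dot v (ebar m))) := fun m => by
      show algebraMap k Λ (χ m) * single (f m).2 1 = _
      rw [← Algebra.smul_def, smul_single, smul_eq_mul, mul_one]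
      rfl
    let n := N * Nat.card F
    have hn : 0 < n := Nat.mul_pos hN.pos Nat.card_pos
    have hker : (powMonoidHom n : M →* M).range ≤ η.ker := by
      rintro _ ⟨m, rfl⟩
      rw [MonoidHom.mem_ker, powMonoidHom_apply, map_pow, hη, single_pow, one_def]
      congr 1
      · rw [show n = Nat.card F * N from mul_comm _ _, pow_mul, pow_card_eq_one', one_pow]
      · rw [pow_mul, ← AddChar.map_nsmul_eq_pow, nsmul_eq_mul, ZMod.natCast_self, zero_mul,
          AddChar.map_zero_eq_one, one_pow]
    let E : MonoidAlgebra k M →ₐ[k] Λ := lift k Λ M η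
    let E' := lift k Λ (M ⧸ (powMonoidHom n : M →* M).range) (QuotientGroup.lift _ η hker)
    have hEE' : ∀ y, E' (mapDomainRingHom k (prn (M := M) n) y) = E y := fun y => by
      induction y using MonoidAlgebra.induction_linear with
      | zero => simp
      | add y y' hy hy' => simp only [map_add, hy, hy']
      | single m r => simp [E, E', prn]
    obtain ⟨s, hs⟩ := h n hn
    have h1 : (E a) ^ s * E x = 0 := by rw [← map_pow, ← map_mul, ← hEE', hs, map_zero]
    have h2 : E x ∈ LinearMap.ker ((LinearMap.mulLeft k (E a)) ^ d) := by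
      apply Module.End.ker_pow_le_ker_pow_finrank _ s
      rw [LinearMap.mem_ker, LinearMap.pow_mulLeft, LinearMap.mulLeft_apply, h1]
    rw [LinearMap.mem_ker, LinearMap.pow_mulLeft, LinearMap.mulLeft_apply, ← map_pow, ← map_mul] at h2
    have h3 : E z = ∑ m ∈ z.coeff.support, single (f m).2 (z.coeff m * ψ (dot v (ebar m))) := by
      conv_lhs => rw [← MonoidAlgebra.sum_coeff_single z]
      rw [Finsupp.sum, map_sum]
      refine Finset.sum_congr rfl fun m _ => ?_
      show lift k Λ M η _ = _
      rw [lift_single, hη]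
      exact smul_single _ _ _
    have h4 := congrArg (fun y : Λ => y.coeff q) (h3.symm.trans h2)
    simp only [coeff_sum, coeff_single, Finsupp.finsetSum_apply, Finsupp.single_apply, coeff_zero,
      Finsupp.coe_zero, Pi.zero_apply] at h4
    rw [Finset.sum_filter]
    exact h4
  obtain ⟨m₀, hm₀⟩ := Finsupp.support_nonempty_iff.2 (fun h0 => hz (coeff_injective (h0.trans coeff_zero.symm)) :
    z.coeff ≠ 0)
  let s := z.coeff.support.filter (fun m => (f m).2 = (f m₀).2)
  let Ψ : (j → ZMod N) → (Multiplicative (j → ZMod N) →* k) := fun w =>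
    { toFun := fun v => ψ (dot v.toAdd w)
      map_one' := by simp [dot]
      map_mul' := fun v v' => by
        rw [← AddChar.map_add_eq_mul]
        congr 1
        simp [dot, add_mul, Finset.sum_add_distrib] }
  have hψ : Function.Injective ψ := fun c c' hcc => by
    apply ZMod.val_injective
    exact hω.pow_inj c.val_lt c'.val_lt (by simpa [ψ, AddChar.zmodChar_apply] using hcc)
  have hinj : Function.Injective fun m : s => Ψ (ebar m) := by
    rintro ⟨m, hm⟩ ⟨m', hm'⟩ hmm
    have hw : ebar m = ebar m' := funext fun i => by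
      have h1 := DFunLike.congr_fun hmm (Multiplicative.ofAdd (Pi.single i 1))
      apply hψ
      simpa [Ψ, dot, Pi.single_apply] using h1
    refine Subtype.ext (f.injective (Prod.ext (funext fun i => ?_) ?_))
    · apply Multiplicative.toAdd.injective
      show ex m i = ex m' i
      have hb : ∀ m ∈ z.coeff.support, 2 * (ex m i).natAbs < N := fun m hm => by
        have h1 := Finset.single_le_sum (f := fun i => 2 * (ex m i).natAbs) (fun _ _ => Nat.zero_le _)
          (Finset.mem_univ i)
        have h2 := Finset.single_le_sum (f := fun m => ∑ i, 2 * (ex m i).natAbs) (fun _ _ => Nat.zero_le _) hm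
        omega
      have h3 := hb m (Finset.mem_filter.1 hm).1
      have h4 := hb m' (Finset.mem_filter.1 hm').1
      have h5 : (N : ℤ) ∣ ex m i - ex m' i := by
        rw [← ZMod.intCast_zmod_eq_zero_iff_dvd, Int.cast_sub, sub_eq_zero]
        exact congrFun hw i
      have h6 := Int.eq_zero_of_dvd_of_natAbs_lt_natAbs h5 (by omega)
      omega
    · rw [(Finset.mem_filter.1 hm).2, (Finset.mem_filter.1 hm').2]
  have hli := (linearIndependent_monoidHom (Multiplicative (j → ZMod N)) k).comp _ hinj
  have := Fintype.linearIndependent_iff.1 hli (fun m => z.coeff m) (funext fun v => by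
    simp only [Finset.sum_apply, Pi.smul_apply, Function.comp_apply, smul_eq_mul, Pi.zero_apply]
    refine (Finset.sum_coe_sort s fun m => z.coeff m * Ψ (ebar m) v).trans ?_
    exact heval v.toAdd (f m₀).2) ⟨m₀, Finset.mem_filter.2 ⟨hm₀, rfl⟩⟩
  exact Finsupp.mem_support_iff.1 hm₀ this

/-- Reduction of coefficients modulo an ideal. -/
abbrev red {S : Type u} [CommRing S] (I : Ideal S) : MonoidAlgebra S M →+* MonoidAlgebra (S ⧸ I) M :=
  mapRingHom M (Ideal.Quotient.mk I)

theorem red_eq_zero_iff {S : Type u} [CommRing S] (I : Ideal S) (y : MonoidAlgebra S M) :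
    red I y = 0 ↔ ∀ m, y.coeff m ∈ I := by
  constructor
  · intro h m
    rw [← Ideal.Quotient.eq_zero_iff_mem, ← coeff_mapRingHom, h]
    rfl
  · intro h
    ext m
    rw [coeff_mapRingHom, Ideal.Quotient.eq_zero_iff_mem.2 (h m)]
    rfl

theorem red_mono {S : Type u} [CommRing S] {Q : Type u} [CommGroup Q] {I I' : Ideal S} (hle : I ≤ I')
    {y : MonoidAlgebra S Q} (h : red I y = 0) : red I' y = 0 :=
  (red_eq_zero_iff I' y).2 fun m => hle ((red_eq_zero_iff I y).1 h m)

theorem pow_mul_eq_zero_noetherian [Group.FG M] {S : Type u} [CommRing S] [_root_.IsNoetherianRing S]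
    (a : MonoidAlgebra S M) (I : Ideal S) :
    ∀ x, (∀ n, 0 < n → ∃ j : ℕ, red I (mapDomainRingHom S (prn (M := M) n) (a ^ j * x)) = 0) →
      ∃ J : ℕ, red I (a ^ J * x) = 0 := by
  classical
  refine IsNoetherian.induction (P := fun I : Ideal S => ∀ x,
    (∀ n, 0 < n → ∃ j : ℕ, red I (mapDomainRingHom S (prn (M := M) n) (a ^ j * x)) = 0) →
      ∃ J : ℕ, red I (a ^ J * x) = 0) (fun (I : Ideal S) IH x hx => ?_) I
  by_cases htop : I = ⊤
  · exact ⟨0, (red_eq_zero_iff I _).2 fun m => htop ▸ Submodule.mem_top⟩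
  by_cases hpr : I.IsPrime
  · let K := AlgebraicClosure (FractionRing (S ⧸ I))
    let φ : S ⧸ I →+* K := (algebraMap (FractionRing (S ⧸ I)) K).comp (algebraMap (S ⧸ I) _)
    have hφ : Function.Injective φ :=
      (algebraMap (FractionRing (S ⧸ I)) K).injective.comp (IsFractionRing.injective _ _)
    obtain ⟨J, hJ⟩ := pow_mul_eq_zero_of_field (mapRingHom M φ (red I a)) (mapRingHom M φ (red I x))
      (Killed.map φ fun n hn => by
        obtain ⟨j, hj⟩ := hx n hn
        exact ⟨j, by rw [← map_pow, ← map_mul, ← mapRing_mapDomain, hj]⟩)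
    refine ⟨J, ?_⟩
    rw [← map_pow, ← map_mul, ← map_pow, ← map_mul] at hJ
    ext m
    have := congrArg (fun y => y.coeff m) hJ
    simp only [coeff_mapRingHom φ] at this
    exact hφ (this.trans (map_zero φ).symm)
  obtain ⟨b, hb, c, hc, hbc⟩ := ((Ideal.not_isPrime_iff.1 hpr).resolve_left htop)
  let I₁ : Ideal S := I ⊔ Ideal.span {b}
  let I₂ : Ideal S := Submodule.comap (LinearMap.mulLeft S b) I
  have hI₁ : I < I₁ := lt_of_le_of_ne le_sup_left fun e => hb (e ▸ Submodule.mem_sup_right (Ideal.mem_span_singleton_self b))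
  have hI₂ : I < I₂ := lt_of_le_of_ne (fun r hr => I.mul_mem_left b hr) fun e => hc (e ▸ hbc)
  obtain ⟨J, hJ⟩ := IH I₁ hI₁ x fun n hn => by
    obtain ⟨j, hj⟩ := hx n hn
    exact ⟨j, red_mono hI₁.le hj⟩
  rw [red_eq_zero_iff] at hJ
  have hdec : ∀ m, ∃ t : S, (a ^ J * x).coeff m - b * t ∈ I := fun m => by
    obtain ⟨u, hu, v, hv, huv⟩ := Submodule.mem_sup.1 (hJ m)
    obtain ⟨t, rfl⟩ := Ideal.mem_span_singleton'.1 hv
    exact ⟨t, by rwa [← huv, mul_comm b t, add_sub_cancel_right]⟩
  choose t ht using hdec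
  let y : MonoidAlgebra S M := ∑ m ∈ (a ^ J * x).coeff.support, single m (t m)
  have hy : red I (a ^ J * x) = red I (single 1 b * y) := by
    conv_lhs => rw [← MonoidAlgebra.sum_coeff_single (a ^ J * x)]
    rw [Finsupp.sum, map_sum, Finset.mul_sum, map_sum]
    refine Finset.sum_congr rfl fun m _ => ?_
    rw [single_mul_single, one_mul, mapRingHom_single, mapRingHom_single, Ideal.Quotient.eq.2 (ht m)]
  obtain ⟨K, hK⟩ := IH I₂ hI₂ y fun n hn => by
    obtain ⟨j, hj⟩ := hx n hn
    refine ⟨j, (red_eq_zero_iff I₂ _).2 fun q => ?_⟩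
    have h1 : red I (mapDomainRingHom S (prn (M := M) n) (a ^ j * (single 1 b * y))) = 0 := by
      rw [red, mapRing_mapDomain, map_mul, ← hy, ← map_mul, mul_left_comm, ← mapRing_mapDomain,
        map_mul, map_mul, hj, mul_zero]
    rw [mul_left_comm, map_mul, mapDomainRingHom_apply, mapDomain_single, map_one, red_eq_zero_iff] at h1
    have h2 := h1 q
    rw [coeff_single_one_mul] at h2
    exact h2
  refine ⟨K + J, ?_⟩
  rw [pow_add, mul_assoc, map_mul, hy, ← map_mul, mul_left_comm, red_eq_zero_iff]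
  intro m
  rw [coeff_single_one_mul]
  exact (red_eq_zero_iff I₂ _).1 hK m

/-- The finite quotients are schematically dense, over every ring. -/
theorem pow_mul_eq_zero [Group.FG M] {S : Type u} [CommRing S] (a x : MonoidAlgebra S M)
    (h : Killed a x) : ∃ J : ℕ, a ^ J * x = 0 := by
  classical
  let s : Finset S := a.coeff.support.image a.coeff ∪ x.coeff.support.image x.coeff
  let S₀ : Subalgebra ℤ S := Algebra.adjoin ℤ (s : Set S)
  haveI : _root_.IsNoetherianRing S₀ :=
    isNoetherianRing_of_fg (Subalgebra.fg_adjoin_finset s)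
  have hlift : ∀ y : MonoidAlgebra S M, (∀ m ∈ y.coeff.support, y.coeff m ∈ S₀) →
      ∃ y₀, mapRingHom M S₀.val.toRingHom y₀ = y := by
    intro y hy
    refine ⟨∑ m ∈ y.coeff.support.attach, single m.1 (⟨y.coeff m.1, hy m.1 m.2⟩ : S₀), ?_⟩
    rw [map_sum]
    simp only [mapRingHom_single]
    conv_rhs => rw [← MonoidAlgebra.sum_coeff_single y, Finsupp.sum, ← Finset.sum_attach]
    rfl
  obtain ⟨a₀, ha₀⟩ := hlift a fun m hm => Algebra.subset_adjoin (by
    simp only [s, Finset.coe_union, Set.mem_union, Finset.mem_coe]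
    exact Or.inl (Finset.mem_image_of_mem _ hm))
  obtain ⟨x₀, hx₀⟩ := hlift x fun m hm => Algebra.subset_adjoin (by
    simp only [s, Finset.coe_union, Set.mem_union, Finset.mem_coe]
    exact Or.inr (Finset.mem_image_of_mem _ hm))
  rw [← ha₀, ← hx₀] at h ⊢
  have h0 := Killed.of_injective S₀.val.toRingHom Subtype.val_injective h
  obtain ⟨J, hJ⟩ := pow_mul_eq_zero_noetherian a₀ (⊥ : Ideal S₀) x₀ fun n hn => by
    obtain ⟨j, hj⟩ := h0 n hn
    exact ⟨j, by rw [hj, map_zero]⟩
  refine ⟨J, ?_⟩
  rw [← map_pow, ← map_mul]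
  rw [red_eq_zero_iff] at hJ
  ext m
  rw [coeff_mapRingHom, (Ideal.mem_bot.1 (hJ m)), map_zero]
  rfl

end Groth.Agent.TorDenseLib
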